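import Groth.Agent.DerLib.WeakSerreTri
import Groth.Agent.DerLib.Amplitude
import Groth.Agent.DerLib.ExactHomology

/-!
# Devissage for full faithfulness and essential surjectivity on bounded objects
-/

set_option autoImplicit false
set_option linter.unusedSectionVars false
set_option linter.style.haveILetI false

universe w w' v v' u u'

open CategoryTheory Limits Pretriangulated DerivedCategory DerivedCategory.TStructure

namespace DevissFFLib

open Groth.Agent.DerLib Groth.Agent.DerLib.Devissage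

variable {C : Type u} [Category.{v} C] [Abelian C] [HasDerivedCategory.{w} C]
  (P : ObjectProperty C) [WSerre.IsWeakSerre P]

/-- A property stable under isomorphisms and extensions that holds on the one-degree objects holds on bounded ones. -/
theorem mem_of_bounded (W : DerivedCategory C → Prop) (hiso : ∀ {X Y : DerivedCategory C}, (X ≅ Y) → W X → W Y)
    (hext : ∀ T : Triangle (DerivedCategory C), T ∈ distTriang _ → W T.obj₁ → W T.obj₃ → W T.obj₂)
    (hs : ∀ (M : C) (b : ℤ), P M → W ((singleFunctor C b).obj M))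
    (X : DerivedCategory C) (hX : WSerre.cohInBdd P X) : W X := by
  obtain ⟨h, hb⟩ := hX
  obtain ⟨⟨a, ha⟩, ⟨b, hb⟩⟩ := hb
  suffices H : ∀ (k : ℕ) (X : DerivedCategory C) [X.IsGE a] [X.IsLE (a + k)], WSerre.cohIn P X → W X by
    haveI : X.IsGE a := ha
    haveI : X.IsLE (a + ((b - a).toNat : ℤ)) :=
      haveI : X.IsLE b := hb
      t.isLE_of_le X b _ (by omega)
    exact H (b - a).toNat X h
  clear ha hb h X
  intro k
  induction k with
  | zero =>
    intro X _ _ h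
    haveI : X.IsLE a := t.isLE_of_le X (a + ((0 : ℕ) : ℤ)) a (by omega)
    obtain ⟨e⟩ := nonempty_iso_single X a
    exact hiso e.symm (hs _ a (h a))
  | succ k ih =>
    intro X _ _ h
    let b : ℤ := a + k
    haveI : X.IsLE (b + 1) := t.isLE_of_le X (a + ((k + 1 : ℕ) : ℤ)) (b + 1) (by simp [b]; omega)
    refine hext _ (t.triangleLEGT_distinguished b X) ?_ ?_
    · change W ((t.truncLE b).obj X)
      haveI : ((t.truncLE b).obj X).IsGE a := by
        rw [isGE_iff]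
        intro i hi
        haveI := isIso_homology_truncLEι X b i (by omega)
        exact (isZero_of_isGE X a i hi).of_iso
          (asIso ((DerivedCategory.homologyFunctor C i).map ((t.truncLEι b).app X)))
      haveI : ((t.truncLE b).obj X).IsLE (a + k) := t.isLE_of_le _ b (a + k) le_rfl
      refine ih _ fun q => ?_
      by_cases hq : q ≤ b
      · haveI := isIso_homology_truncLEι X b q hq
        exact P.prop_of_iso
          (asIso ((DerivedCategory.homologyFunctor C q).map ((t.truncLEι b).app X))).symm (h q)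
      · exact P.prop_of_isZero (isZero_of_isLE _ b q (by omega))
    · change W ((t.truncGT b).obj X)
      haveI : ((t.truncGT b).obj X).IsLE (b + 1) := by
        rw [isLE_iff]
        intro i hi
        haveI := isIso_homology_truncGTπ X b i (by omega)
        exact (isZero_of_isLE X (b + 1) i hi).of_iso
          (asIso ((DerivedCategory.homologyFunctor C i).map ((t.truncGTπ b).app X))).symm
      obtain ⟨e⟩ := nonempty_iso_single ((t.truncGT b).obj X) (b + 1)
      haveI := isIso_homology_truncGTπ X b (b + 1) (by omega)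
      exact hiso e.symm (hs _ (b + 1) (P.prop_of_iso
        (asIso ((DerivedCategory.homologyFunctor C (b + 1)).map ((t.truncGTπ b).app X))) (h (b + 1))))

theorem cohInBdd_iso {X Y : DerivedCategory C} (e : X ≅ Y) (h : WSerre.cohInBdd P X) :
    WSerre.cohInBdd P Y :=
  ⟨WeakSerreTri.cohIn_of_iso P e h.1, ObjectProperty.prop_of_iso _ e h.2⟩

theorem cohInBdd_ext (T : Triangle (DerivedCategory C)) (hT : T ∈ distTriang _)
    (h₁ : WSerre.cohInBdd P T.obj₁) (h₃ : WSerre.cohInBdd P T.obj₃) : WSerre.cohInBdd P T.obj₂ :=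
  ⟨WeakSerreTri.cohIn_obj₂ P T hT h₁.1 h₃.1, ObjectProperty.ext_of_isTriangulatedClosed₂ _ T hT h₁.2 h₃.2⟩

theorem cohInBdd_shift (X : DerivedCategory C) (n : ℤ) (h : WSerre.cohInBdd P X) : WSerre.cohInBdd P (X⟦n⟧) :=
  ⟨WeakSerreTri.cohIn_shift P X n h.1, ObjectProperty.le_shift _ n X h.2⟩

theorem cohInBdd_single (M : C) (n : ℤ) (hM : P M) : WSerre.cohInBdd P ((singleFunctor C n).obj M) :=
  ⟨WeakSerreTri.cohIn_single P n M hM, ⟨n, inferInstance⟩, ⟨n, inferInstance⟩⟩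

section FF

variable {D : Type*} [Category D] [HasShift D ℤ] [HasZeroObject D] [Preadditive D]
  [∀ n : ℤ, (shiftFunctor D n).Additive] [Pretriangulated D]
  (Φ : DerivedCategory C ⥤ D) [Φ.CommShift ℤ] [Φ.IsTriangulated]

/-- `Φ` is bijective on morphisms from `K` to `L`. -/
def Bij (K L : DerivedCategory C) : Prop := Function.Bijective (fun f : (K ⟶ L) => Φ.map f)

variable {Φ}

theorem Bij.iso {K K' L L' : DerivedCategory C} (h : Bij Φ K L) (e : K ≅ K') (e' : L ≅ L') : Bij Φ K' L' := by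
  constructor
  · intro f g hfg
    have : e.hom ≫ f ≫ e'.inv = e.hom ≫ g ≫ e'.inv := h.1 (by
      simp only [Functor.map_comp, hfg])
    rwa [cancel_epi, cancel_mono] at this
  · intro ψ
    obtain ⟨f, hf⟩ := h.2 (Φ.map e.hom ≫ ψ ≫ Φ.map e'.inv)
    refine ⟨e.inv ≫ f ≫ e'.hom, ?_⟩
    change Φ.map f = _ at hf
    simp only [Functor.map_comp, hf, Category.assoc, Iso.map_inv_hom_id_assoc]
    simp [← Φ.map_comp]

theorem Bij.shift {K L : DerivedCategory C} (h : Bij Φ K L) (m : ℤ) : Bij Φ (K⟦m⟧) (L⟦m⟧) := by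
  have hC := (Functor.FullyFaithful.ofFullyFaithful (shiftFunctor (DerivedCategory C) m)).map_bijective K L
  have key : ∀ f : K ⟶ L, Φ.map (f⟦m⟧') =
      (Φ.commShiftIso m).hom.app K ≫ (Φ.map f)⟦m⟧' ≫ (Φ.commShiftIso m).inv.app L := fun f => by
    have := (Φ.commShiftIso m).hom.naturality f
    simp only [Functor.comp_map] at this
    rw [← reassoc_of% this, Iso.hom_inv_id_app]
    exact (Category.comp_id _).symm
  constructor
  · intro f g hfg
    obtain ⟨f, rfl⟩ := hC.2 f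
    obtain ⟨g, rfl⟩ := hC.2 g
    simp only [key, cancel_epi, cancel_mono] at hfg
    rw [h.1 ((shiftFunctor D m).map_injective hfg)]
  · intro ψ
    obtain ⟨φ, hφ⟩ := (shiftFunctor D m).map_surjective
      ((Φ.commShiftIso m).inv.app K ≫ ψ ≫ (Φ.commShiftIso m).hom.app L)
    obtain ⟨f, rfl⟩ := h.2 φ
    exact ⟨f⟦m⟧', by simp [key, hφ]⟩

theorem bij_target {K : DerivedCategory C} (T : Triangle (DerivedCategory C)) (hT : T ∈ distTriang _)
    (h₁ : Bij Φ K T.obj₁) (h₁' : Bij Φ K (T.obj₁⟦(1 : ℤ)⟧)) (h₃ : Bij Φ K T.obj₃)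
    (h₃' : Bij Φ K (T.obj₃⟦(-1 : ℤ)⟧)) : Bij Φ K T.obj₂ := by
  have hz : ∀ {L : DerivedCategory C} {f : K ⟶ L}, Bij Φ K L → Φ.map f = 0 → f = 0 :=
    fun hL h => hL.1 (h.trans (Φ.map_zero _ _).symm)
  constructor
  · intro f g hfg
    rw [← sub_eq_zero]
    obtain ⟨c, hc⟩ := Triangle.coyoneda_exact₂ T hT (f - g) (hz h₃ (by
      simp only [Functor.map_comp, Functor.map_sub] at hfg ⊢
      rw [hfg, sub_self, zero_comp]))
    obtain ⟨h, hh⟩ := Triangle.coyoneda_exact₂ (Φ.mapTriangle.obj T.invRotate)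
      (Φ.map_distinguished _ (inv_rot_of_distTriang _ hT)) (Φ.map c) (by
        change Φ.map c ≫ Φ.map T.mor₁ = 0
        rw [← Φ.map_comp, ← hc, Φ.map_sub]
        exact sub_eq_zero.2 hfg)
    obtain ⟨h', rfl⟩ := h₃'.2 h
    have hc' : c = h' ≫ T.invRotate.mor₁ := h₁.1 (hh.trans (Φ.map_comp h' T.invRotate.mor₁).symm)
    rw [hc, hc']
    exact (Category.assoc _ _ _).trans
      ((h' ≫= comp_distTriang_mor_zero₁₂ _ (inv_rot_of_distTriang _ hT)).trans comp_zero)
  · intro ψ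
    obtain ⟨g, hg⟩ := h₃.2 (ψ ≫ Φ.map T.mor₂)
    change Φ.map g = _ at hg
    obtain ⟨f, hf⟩ := Triangle.coyoneda_exact₃ T hT g (hz h₁' (by
      rw [Φ.map_comp, hg, Category.assoc, ← Φ.map_comp, comp_distTriang_mor_zero₂₃ _ hT, Φ.map_zero, comp_zero]))
    obtain ⟨χ, hχ⟩ := Triangle.coyoneda_exact₂ (Φ.mapTriangle.obj T) (Φ.map_distinguished _ hT)
      (ψ - Φ.map f) (by
        change (ψ - Φ.map f) ≫ Φ.map T.mor₂ = 0
        rw [Preadditive.sub_comp, ← Φ.map_comp, ← hf, hg, sub_self])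
    obtain ⟨c, rfl⟩ := h₁.2 χ
    refine ⟨c ≫ T.mor₁ + f, ?_⟩
    change Φ.map _ = _
    rw [Φ.map_add, Φ.map_comp]
    exact (sub_eq_iff_eq_add.1 hχ).symm

theorem bij_source {Y : DerivedCategory C} (T : Triangle (DerivedCategory C)) (hT : T ∈ distTriang _)
    (h₁ : Bij Φ T.obj₁ Y) (h₁' : Bij Φ (T.obj₁⟦(1 : ℤ)⟧) Y) (h₃ : Bij Φ T.obj₃ Y)
    (h₃' : Bij Φ (T.obj₃⟦(-1 : ℤ)⟧) Y) : Bij Φ T.obj₂ Y := by
  have hz : ∀ {L : DerivedCategory C} {f : L ⟶ Y}, Bij Φ L Y → Φ.map f = 0 → f = 0 :=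
    fun hL h => hL.1 (h.trans (Φ.map_zero _ _).symm)
  constructor
  · intro f g hfg
    rw [← sub_eq_zero]
    obtain ⟨c, hc⟩ := Triangle.yoneda_exact₂ T hT (f - g) (hz h₁ (by
      simp only [Functor.map_comp, Functor.map_sub] at hfg ⊢
      rw [hfg, sub_self, comp_zero]))
    obtain ⟨h, hh⟩ := Triangle.yoneda_exact₂ (Φ.mapTriangle.obj T.rotate)
      (Φ.map_distinguished _ (rot_of_distTriang _ hT)) (Φ.map c) (by
        change Φ.map T.mor₂ ≫ Φ.map c = 0
        rw [← Φ.map_comp, ← hc, Φ.map_sub]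
        exact sub_eq_zero.2 hfg)
    obtain ⟨h', rfl⟩ := h₁'.2 h
    have hc' : c = T.mor₃ ≫ h' := h₃.1 (hh.trans (Φ.map_comp T.mor₃ h').symm)
    rw [hc, hc', ← Category.assoc, comp_distTriang_mor_zero₂₃ _ hT, zero_comp]
  · intro ψ
    obtain ⟨g, hg⟩ := h₁.2 (Φ.map T.mor₁ ≫ ψ)
    change Φ.map g = _ at hg
    obtain ⟨(f : T.obj₂ ⟶ Y), hf⟩ := Triangle.yoneda_exact₂ T.invRotate (inv_rot_of_distTriang _ hT) g (hz h₃' (by
      refine (Φ.map_comp _ _).trans ((Φ.map T.invRotate.mor₁ ≫= hg).trans ?_)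
      refine (Category.assoc _ _ _).symm.trans (((Φ.map_comp _ _).symm.trans
        (Φ.congr_map (comp_distTriang_mor_zero₁₂ _ (inv_rot_of_distTriang _ hT))) =≫ ψ).trans ?_)
      rw [Φ.map_zero, zero_comp]))
    obtain ⟨χ, hχ⟩ := Triangle.yoneda_exact₂ (Φ.mapTriangle.obj T) (Φ.map_distinguished _ hT)
      (ψ - Φ.map f) (by
        change Φ.map T.mor₁ ≫ (ψ - Φ.map f) = 0
        rw [Preadditive.comp_sub, ← hg, sub_eq_zero, ← Φ.map_comp]
        exact Φ.congr_map hf)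
    obtain ⟨c, rfl⟩ := h₃.2 χ
    refine ⟨T.mor₂ ≫ c + f, ?_⟩
    change Φ.map _ = _
    rw [Φ.map_add, Φ.map_comp]
    exact (sub_eq_iff_eq_add.1 hχ).symm

theorem bij_of_bounded (h : ∀ (M M' : C), P M → P M' → ∀ n : ℤ,
      Bij Φ ((singleFunctor C 0).obj M) (((singleFunctor C 0).obj M')⟦n⟧))
    (K L : DerivedCategory C) (hK : WSerre.cohInBdd P K) (hL : WSerre.cohInBdd P L) : Bij Φ K L := by
  have step₁ : ∀ (M : C), P M → ∀ (L : DerivedCategory C), WSerre.cohInBdd P L →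
      ∀ n : ℤ, Bij Φ ((singleFunctor C 0).obj M) (L⟦n⟧) := fun M hM L hL => by
    refine mem_of_bounded P (fun L => ∀ n : ℤ, Bij Φ ((singleFunctor C 0).obj M) (L⟦n⟧))
      (fun e h n => (h n).iso (Iso.refl _) ((shiftFunctor _ n).mapIso e)) (fun T hT h₁ h₃ n => ?_)
      (fun M' b hM' n => ?_) L hL
    · exact bij_target _ (Triangle.shift_distinguished _ hT n) (h₁ n)
        ((h₁ (n + 1)).iso (Iso.refl _) ((shiftFunctorAdd' _ n 1 (n + 1) rfl).app _)) (h₃ n)
        ((h₃ (n + -1)).iso (Iso.refl _) ((shiftFunctorAdd' _ n (-1) (n + -1) rfl).app _))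
    · exact (h M M' hM hM' (n - b)).iso (Iso.refl _)
        ((shiftFunctorAdd' _ (-b) n (n - b) (by omega)).app _ ≪≫ (shiftFunctor _ n).mapIso
          (((singleFunctors C).shiftIso (-b) b 0 (by omega)).app M'))
  have step₂ : ∀ (K : DerivedCategory C), WSerre.cohInBdd P K → ∀ (n : ℤ), Bij Φ (K⟦n⟧) L := fun K hK => by
    refine mem_of_bounded P (fun K => ∀ n : ℤ, Bij Φ (K⟦n⟧) L)
      (fun e h n => (h n).iso ((shiftFunctor _ n).mapIso e) (Iso.refl _)) (fun T hT h₁ h₃ n => ?_)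
      (fun M b hM n => ?_) K hK
    · exact bij_source _ (Triangle.shift_distinguished _ hT n) (h₁ n)
        ((h₁ (n + 1)).iso ((shiftFunctorAdd' _ n 1 (n + 1) rfl).app _) (Iso.refl _)) (h₃ n)
        ((h₃ (n + -1)).iso ((shiftFunctorAdd' _ n (-1) (n + -1) rfl).app _) (Iso.refl _))
    · exact ((step₁ M hM L hL (b - n)).shift (n - b)).iso
        ((shiftFunctorAdd' _ (-b) n (n - b) (by omega)).app _ ≪≫ (shiftFunctor _ n).mapIso
          (((singleFunctors C).shiftIso (-b) b 0 (by omega)).app M))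
        ((shiftFunctorCompIsoId _ (b - n) (n - b) (by omega)).app L)
  exact (step₂ K hK 0).iso ((shiftFunctorZero _ ℤ).app K) (Iso.refl _)

end FF

section Exact

variable {E : Type u'} [Category.{v'} E] [Abelian E] [HasDerivedCategory.{w'} E]
  (R : ObjectProperty E) [WSerre.IsWeakSerre R]
  (G : C ⥤ E) [G.Additive] [PreservesFiniteLimits G] [PreservesFiniteColimits G]

theorem cohInBdd_map (hG : ∀ M, P M → R (G.obj M)) (K : DerivedCategory C) (hK : WSerre.cohInBdd P K) :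
    WSerre.cohInBdd R (G.mapDerivedCategory.obj K) :=
  mem_of_bounded P (fun K => WSerre.cohInBdd R (G.mapDerivedCategory.obj K))
    (fun e => cohInBdd_iso R (G.mapDerivedCategory.mapIso e))
    (fun _ hT => cohInBdd_ext R _ (G.mapDerivedCategory.map_distinguished _ hT))
    (fun M b hM => cohInBdd_iso R ((G.mapDerivedCategorySingleFunctor b).app M).symm
      (cohInBdd_single R _ b (hG M hM))) K hK

/-- An exact functor inducing an equivalence `P → R` and bijections on all `Hom(F, F'⟦n⟧)` gives `D^b_P ≃ D^b_R`. -/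
theorem equivalence_cohInBdd (hG : ∀ M, P M → R (G.obj M))
    (hsurj : ∀ N, R N → ∃ M, P M ∧ Nonempty (G.obj M ≅ N))
    (h : ∀ (M M' : C), P M → P M' → ∀ n : ℤ, Function.Bijective (fun φ :
      ((singleFunctor C 0).obj M ⟶ ((singleFunctor C 0).obj M')⟦n⟧) => G.mapDerivedCategory.map φ)) :
    (∀ K, WSerre.cohInBdd P K → WSerre.cohInBdd R (G.mapDerivedCategory.obj K)) ∧
      (∀ K L, WSerre.cohInBdd P K → WSerre.cohInBdd P L →
        Function.Bijective (fun φ : (K ⟶ L) => G.mapDerivedCategory.map φ)) ∧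
      (∀ N : DerivedCategory E, WSerre.cohInBdd R N →
        ∃ K, WSerre.cohInBdd P K ∧ Nonempty (G.mapDerivedCategory.obj K ≅ N)) := by
  refine ⟨cohInBdd_map P R G hG, fun K L hK hL => bij_of_bounded P (Φ := G.mapDerivedCategory) h K L hK hL,
    fun N hN => ?_⟩
  refine mem_of_bounded R (fun N => ∃ K, WSerre.cohInBdd P K ∧ Nonempty (G.mapDerivedCategory.obj K ≅ N))
    (fun e ⟨K, hK, ⟨f⟩⟩ => ⟨K, hK, ⟨f ≪≫ e⟩⟩) (fun T hT h₁ h₃ => ?_) (fun N' b hN' => ?_) N hN
  · obtain ⟨K₁, hK₁, ⟨e₁⟩⟩ := h₁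
    obtain ⟨K₃, hK₃, ⟨e₃⟩⟩ := h₃
    obtain ⟨d, hd⟩ := (bij_of_bounded P (Φ := G.mapDerivedCategory) h K₃ (K₁⟦(1 : ℤ)⟧) hK₃
      (cohInBdd_shift P K₁ 1 hK₁)).2
      (e₃.hom ≫ T.mor₃ ≫ e₁.inv⟦(1 : ℤ)⟧' ≫ (G.mapDerivedCategory.commShiftIso (1 : ℤ)).inv.app K₁)
    change G.mapDerivedCategory.map d = _ at hd
    obtain ⟨K₂, i, q, hK⟩ := distinguished_cocone_triangle₂ d
    exact ⟨K₂, cohInBdd_ext P (Triangle.mk i q d) hK hK₁ hK₃, ⟨Triangle.π₂.mapIso
      (isoTriangleOfIso₁₃ (G.mapDerivedCategory.mapTriangle.obj (Triangle.mk i q d)) T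
        (G.mapDerivedCategory.map_distinguished _ hK) hT e₁ e₃ (by
          change (G.mapDerivedCategory.map d ≫ (G.mapDerivedCategory.commShiftIso (1 : ℤ)).hom.app K₁) ≫
            e₁.hom⟦(1 : ℤ)⟧' = e₃.hom ≫ T.mor₃
          simp [hd, ← Functor.map_comp]))⟩⟩
  · obtain ⟨M, hM, ⟨e⟩⟩ := hsurj N' hN'
    exact ⟨(singleFunctor C b).obj M, cohInBdd_single P M b hM,
      ⟨(G.mapDerivedCategorySingleFunctor b).app M ≪≫ (singleFunctor E b).mapIso e⟩⟩

end Exact

end DevissFFLib
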